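import Cfsg.Agent.H626.PiSpor.GL
import Cfsg.Agent.H109.PiSpor.MTwo
import Cfsg.Agent.H241.NHMonD
import Cfsg.Agent.H587.RegM
import Cfsg.Agent.H199.AbMon

/-!
# S4324, sporadic rows: the Monster, `p ≥ 17` (helper626)

`ni_M_large` : `p = 17, 19, 23, 31, 47` : the double cover of the Baby Monster; `p = 29, 41, 59, 71` : the tools `NI.of_V` and
`ni_of_gl`.
-/

set_option autoImplicit false
set_option maxRecDepth 100000

namespace Cfsg.Agent.H626.PiSpor

open Subgroup Cfsg Cfsg.Agent.H216.Pi Cfsg.Agent.H209.PiSpor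
open Cfsg.Agent.BpSpor.MBigModel Cfsg.Agent.H199.NSmMon

universe u

section Index

open Cfsg.Agent.MonsterX Cfsg.Agent.MonsterX.MainPack Cfsg.Agent.MonsterX.MainSimple Cfsg.Agent.MonsterX.MainBasic
open Cfsg.Agent.MonsterU.Assembly Cfsg.Agent.MonsterP Cfsg.Agent.MonsterU Cfsg.Agent.MonsterX.Model

/-- primes not dividing the index of the centralizer of a transposition -/
theorem ni_index {s p : ℕ} (hs : s.Prime) (hp : p.Prime) (hps : p ≠ s) (hp2 : p ≠ 2)
    (hd : s ∣ 4154781481226426191177580544000000) (hi : ¬ p ∣ 97239461142009186000) : NI s p MG := by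
  have hfin := MFive.Row.finite_model
  have hfb := H546.MFiveFull.finite_b
  have hsb : IsSimpleGroup Cfsg.Spor.BabyMonster := Cfsg.Agent.S1704.result.1
  have hcov := H546.MFiveFull.cover_t Uncond.all (NodesGrp.prel NodesU.hyp) (NodesNe.ne NodesU.hyp) NodesU.conj_ten
    Cfsg.Agent.S1704.result
  have hR := KDone.mRep
  obtain ⟨h2, ⟨e⟩, -⟩ := hcov
  set t : MG := tG KDone.mGroup KDone.mRep with ht
  have ht1 : t ≠ 1 := fun h => hR.t₀_ne (congrArg Subtype.val h)
  have hM : centralizer ({t} : Set MG) ≠ ⊤ := by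
    intro h
    apply ht1
    rw [← mem_bot, ← MFive.Row.center_model, mem_center_iff]
    intro k
    have h3 : k ∈ centralizer ({t} : Set MG) := by rw [h]; exact mem_top k
    exact mem_centralizer_singleton_iff.1 h3
  have hB : Nat.card Cfsg.Spor.BabyMonster = 4154781481226426191177580544000000 := Cfsg.Agent.S1704.result.2
  have hcard : Nat.card (centralizer ({t} : Set MG)) = 4154781481226426191177580544000000 * 2 := by
    rw [Subgroup.card_eq_card_quotient_mul_card_subgroup (center (centralizer ({t} : Set MG))), h2,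
      Nat.card_congr e.toEquiv, hB]
  have hidx : (centralizer ({t} : Set MG)).index = 97239461142009186000 := by
    have h3 := (centralizer ({t} : Set MG)).card_mul_index
    rw [hcard, card_M] at h3
    exact Nat.eq_of_mul_eq_mul_left (show 0 < 4154781481226426191177580544000000 * 2 by norm_num)
      (h3.trans (by norm_num))
  refine NI.of_index_hom hs hp hps hM (by rw [hidx]; exact hi)
    (e.toMonoidHom.comp (QuotientGroup.mk' (center ↥(centralizer ({t} : Set MG)))))
    (e.surjective.comp (QuotientGroup.mk'_surjective _)) (core_eq_bot_of_simple hs (by rw [hB]; exact hd)) ?_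
  have hker : (e.toMonoidHom.comp (QuotientGroup.mk' (center ↥(centralizer ({t} : Set MG))))).ker =
      center ↥(centralizer ({t} : Set MG)) := by
    ext x
    rw [MonoidHom.mem_ker]
    constructor
    · intro h
      have h3 : e (QuotientGroup.mk' (center ↥(centralizer ({t} : Set MG))) x) = 1 := h
      rw [map_eq_one_iff e e.injective] at h3
      exact (QuotientGroup.eq_one_iff _).1 h3
    · intro h
      show e (QuotientGroup.mk' (center ↥(centralizer ({t} : Set MG))) x) = 1
      rw [map_eq_one_iff e e.injective]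
      exact (QuotientGroup.eq_one_iff _).2 h
  rw [hker, h2]
  exact fun h => hp2 ((Nat.prime_dvd_prime_iff_eq hp Nat.prime_two).1 h)

end Index

/-! ### Elements of order `s` with small centralizers -/

theorem no_comm {G : Type*} [Group G] [Finite G] {p : ℕ} {y : G} (h : ¬ p ∣ Nat.card (centralizer ({y} : Set G))) {g : G}
    (hg : orderOf g = p) : g * y ≠ y * g := by
  intro hgy
  apply h
  have h1 : g ∈ centralizer ({y} : Set G) := mem_centralizer_singleton_iff.2 hgy
  rw [← hg, ← Subgroup.orderOf_mk g h1]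
  exact orderOf_dvd_natCard _

/-- **(V) for the Monster.** -/
theorem ni_v {s p : ℕ} (hs : s.Prime) (hp : p.Prime) (hp2 : ¬ p ^ 2 ∣ Nat.card MG) (hsp : ¬ s ∣ p - 1) {y : MG}
    (hy : orderOf y = s) (hC : ¬ p ∣ Nat.card (centralizer ({y} : Set MG))) : NI s p MG := by
  have hfin := finite
  refine NI.of_V hs hp MFive.Row.center_model hy (fun h hh => no_comm hC hh) ?_
  intro b hb hbd
  have hb1 : b = 1 := by
    by_contra hne
    exact hp2 ((pow_dvd_pow p (show 2 ≤ b by omega)).trans hbd)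
  rw [hb1, pow_one]
  exact hsp

/-- **The other case for the Monster.** -/
theorem ni_gl {s p n : ℕ} (hs : s.Prime) (hp : p.Prime) (hps : p ≠ s) (hp2 : ¬ p ^ 2 ∣ Nat.card MG)
    (hsp : ¬ s ^ 2 ∣ p - 1) (h2 : s ^ 2 ∣ 2 ^ 25 * 4157776806543360000)
    (hE : ∀ x : MG, orderOf x = s → Ev x → ¬ p ∣ Nat.card (centralizer ({x} : Set MG)))
    (hn : s ^ n ∣ Nat.card MG) (hex : ∃ y : MG, orderOf y = s ∧ ¬ s ^ n ∣ Nat.card (centralizer ({y} : Set MG))) :
    NI s p MG := by
  have hfin := finite
  have hsf : Fact s.Prime := ⟨hs⟩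
  rw [← card_cent_z] at h2
  obtain ⟨B, hB⟩ := Sylow.exists_subgroup_card_pow_prime s h2
  obtain ⟨y, hy, hyn⟩ := hex
  refine ni_of_gl hs hp hps MFive.Row.center_model hp2 hsp
    (A := B.map (centralizer ({zz} : Set MG)).subtype) ?_ ?_ hy hn hyn
  · rw [Subgroup.card_map_of_injective (Subgroup.subtype_injective _), hB]
  · intro a ha hao
    refine hE a hao ⟨1, ?_⟩
    rw [one_mul, inv_one, mul_one]
    exact (mem_centralizer_singleton_iff.1 (map_subtype_le _ ha)).symm

theorem isoM : Spor.IsoM MG := by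
  obtain ⟨f⟩ := MonsterP.Equiv.equiv
  exact ⟨f.symm⟩

theorem exists_thirteen {p : ℕ} (hp : p.Prime) (h17 : 17 ≤ p) (hp2 : ¬ p ^ 2 ∣ Nat.card MG) :
    ∃ y : MG, orderOf y = 13 ∧ ¬ p ∣ Nat.card (centralizer ({y} : Set MG)) := by
  have hfin := finite
  obtain ⟨x, Q, hx, only, q2, qx, qz, zQ, nc⟩ := H241.Mon.exists_thirteen
  have hx' : orderOf (x : MG) = 13 := by rw [Subgroup.orderOf_coe, hx]
  refine ⟨x, hx', ?_⟩
  exact H241.NH.not_dvd_cent (z := zz) H241.Mon.z_order (by rw [hx']; decide)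
    (mem_centralizer_singleton_iff.1 x.2).symm only q2 qx qz zQ nc hp hp2
    (H241.Mon.not_dvd_inf hx hp (by omega) (by omega))

/-- **The Monster, large primes, in the model.** -/
theorem ni_large_model {s p : ℕ} (hs : s = 3 ∨ s = 5 ∨ s = 7 ∨ s = 11 ∨ s = 13)
    (hp : p = 17 ∨ p = 19 ∨ p = 23 ∨ p = 29 ∨ p = 31 ∨ p = 41 ∨ p = 47 ∨ p = 59 ∨ p = 71) : NI s p MG := by
  have hfin := finite
  have hsp : s.Prime := by rcases hs with rfl | rfl | rfl | rfl | rfl <;> norm_num
  have hb : Big p := hp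
  have hpp : p.Prime := hb.prime
  have hp2 : ¬ p ^ 2 ∣ Nat.card MG := not_sq hb
  by_cases h1 : p = 17 ∨ p = 19 ∨ p = 23 ∨ p = 31 ∨ p = 47
  · refine ni_index hsp hpp ?_ ?_ ?_ ?_
    · rcases h1 with rfl | rfl | rfl | rfl | rfl <;> rcases hs with rfl | rfl | rfl | rfl | rfl <;> norm_num
    · rcases h1 with rfl | rfl | rfl | rfl | rfl <;> norm_num
    · rcases hs with rfl | rfl | rfl | rfl | rfl <;> norm_num
    · rcases h1 with rfl | rfl | rfl | rfl | rfl <;> norm_num
  have h2 : p = 29 ∨ p = 41 ∨ p = 59 ∨ p = 71 := by omega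
  rcases hs with rfl | rfl | rfl | rfl | rfl
  · obtain ⟨y, hy, hc⟩ := H587.RegM.exists_three isoM
    refine ni_v hsp hpp hp2 ?_ hy ?_
    · rcases h2 with rfl | rfl | rfl | rfl <;> norm_num
    · rw [hc]
      rcases h2 with rfl | rfl | rfl | rfl <;> norm_num
  · obtain ⟨y, hy, hc⟩ := H587.RegM.exists_five isoM
    by_cases h3 : p = 41 ∨ p = 71
    · refine ni_gl (n := 9) hsp hpp ?_ hp2 ?_ (by norm_num) ?_ (by rw [card_M]; norm_num)
        ⟨y, hy, by rw [hc]; norm_num⟩
      · rcases h3 with rfl | rfl <;> norm_num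
      · rcases h3 with rfl | rfl <;> norm_num
      · intro x hx he
        rcases five hx he with h | h
        · rw [h]
          rcases h3 with rfl | rfl <;> norm_num
        · exact h p hb
    · have h4 : p = 29 ∨ p = 59 := by omega
      refine ni_v hsp hpp hp2 ?_ hy ?_
      · rcases h4 with rfl | rfl <;> norm_num
      · rw [hc]
        rcases h4 with rfl | rfl <;> norm_num
  · obtain ⟨y, hy, hc⟩ := H587.RegM.exists_seven isoM
    by_cases h3 : p = 29 ∨ p = 71
    · refine ni_gl (n := 6) hsp hpp ?_ hp2 ?_ (by norm_num) ?_ (by rw [card_M]; norm_num)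
        ⟨y, hy, by rw [hc]; norm_num⟩
      · rcases h3 with rfl | rfl <;> norm_num
      · rcases h3 with rfl | rfl <;> norm_num
      · intro x hx he
        rcases H70.MSeven.seven hx he with h | h
        · rw [h]
          rcases h3 with rfl | rfl <;> norm_num
        · exact h p hb
    · have h4 : p = 41 ∨ p = 59 := by omega
      refine ni_v hsp hpp hp2 ?_ hy ?_
      · rcases h4 with rfl | rfl <;> norm_num
      · rw [hc]
        rcases h4 with rfl | rfl <;> norm_num
  · obtain ⟨y, hy, he⟩ := exists_ev (p := 11) (by norm_num) (by norm_num)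
    refine ni_v hsp hpp hp2 ?_ hy ?_
    · rcases h2 with rfl | rfl | rfl | rfl <;> norm_num
    · rw [H199.AbMon.eleven hy he]
      rcases h2 with rfl | rfl | rfl | rfl <;> norm_num
  · obtain ⟨y, hy, hc⟩ := exists_thirteen hpp (by omega) hp2
    refine ni_v hsp hpp hp2 ?_ hy hc
    rcases h2 with rfl | rfl | rfl | rfl <;> norm_num

/-- **The Monster, large primes** -/
theorem ni_M_large {K : Type u} [Group K] [Finite K] (h : Spor.IsoM K) {s p : ℕ}
    (hs : s = 3 ∨ s = 5 ∨ s = 7 ∨ s = 11 ∨ s = 13)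
    (hp : p = 17 ∨ p = 19 ∨ p = 23 ∨ p = 29 ∨ p = 31 ∨ p = 41 ∨ p = 47 ∨ p = 59 ∨ p = 71) : NI s p K := by
  obtain ⟨e⟩ := h
  obtain ⟨f⟩ := MonsterP.Equiv.equiv
  have hfin := MFive.Row.finite_model
  exact NI.congr (e.trans f).symm (ni_large_model hs hp)

end Cfsg.Agent.H626.PiSpor
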